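import Groth.Agent.KoszulMul.CechRegular
import Mathlib.RingTheory.Flat.CategoryTheory
import Groth.Agent.FlatCx.Basic

/-! The extended Čech complex of a flat module with respect to a Koszul-regular sequence. -/

set_option autoImplicit false
universe u
attribute [local instance] HasDerivedCategory.standard
open CategoryTheory Limits CochainComplex MonoidalCategory

namespace Groth.Agent.LocKReg

open Groth.Agent.KoszulMul.CechRegular

variable {R : Type u} [CommRing R]

/-- isomorphisms of cones -/
noncomputable def coneIso {K K' : DRing.Cx R} {φ : K ⟶ K} {φ' : K' ⟶ K'} (e : K ≅ K')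
    (h : φ ≫ e.hom = e.hom ≫ φ') : mappingCone φ ≅ mappingCone φ' where
  hom := mappingCone.map _ _ e.hom e.hom h
  inv := mappingCone.map _ _ e.inv e.inv (by rw [Iso.eq_inv_comp, ← reassoc_of% h, e.hom_inv_id, Category.comp_id])
  hom_inv_id := by
    ext n : 1
    apply mappingCone.ext_from _ (n + 1) n rfl <;> simp [mappingCone.map]
  inv_hom_id := by
    ext n : 1
    apply mappingCone.ext_from _ (n + 1) n rfl <;> simp [mappingCone.map]

/-- iterated cones commute with a linear functor -/
theorem nonempty_It_map (G : ModuleCat.{u} R ⥤ ModuleCat.{u} R) [G.Additive] [Functor.Linear R G] :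
    ∀ (l : List R) (E : DRing.Cx R),
      Nonempty ((G.mapHomologicalComplex (ComplexShape.up ℤ)).obj (It l E) ≅
        It l ((G.mapHomologicalComplex (ComplexShape.up ℤ)).obj E))
  | [], E => ⟨Iso.refl _⟩
  | a :: l, E => by
    obtain ⟨e⟩ := nonempty_It_map G l E
    refine ⟨mappingCone.mapHomologicalComplexIso (a • 𝟙 (It l E)) G ≪≫ ?_⟩
    refine coneIso e ?_
    ext n : 1
    simp

/-- isomorphisms of iterated cones -/
noncomputable def itIso : ∀ (l : List R) {E E' : DRing.Cx R}, (E ≅ E') → (It l E ≅ It l E')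
  | [], _, _, e => e
  | a :: l, _, _, e => coneIso (itIso l e) (by simp)

theorem isZero_It_single {fs : List R} (hfs : LCI.IsKoszulRegularSeq R fs) (M : ModuleCat.{u} R)
    [Module.Flat R M] (i : ℤ) (hi : i ≠ 0) :
    IsZero ((It fs ((HomologicalComplex.single (ModuleCat.{u} R) (ComplexShape.up ℤ) 0).obj M)).homology i) := by
  let G := tensorRight M
  have : PreservesFiniteLimits G := inferInstanceAs (PreservesFiniteLimits (tensorRight M))
  have : PreservesFiniteColimits G := Groth.Agent.FlatCx.preservesFiniteColimits_tensorRight M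
  have hz : IsZero ((It fs ((singleFunctor (ModuleCat.{u} R) 0).obj (ModuleCat.of R R))).homology i) :=
    (hfs i hi).of_iso (eqToIso (congrArg (fun K : DRing.Cx R => K.homology i) (koszul_eq fs)).symm)
  obtain ⟨e⟩ := nonempty_It_map G fs ((singleFunctor (ModuleCat.{u} R) 0).obj (ModuleCat.of R R))
  have h2 : IsZero (((G.mapHomologicalComplex (ComplexShape.up ℤ)).obj
      (It fs ((singleFunctor (ModuleCat.{u} R) 0).obj (ModuleCat.of R R)))).homology i) :=
    (G.map_isZero hz).of_iso (((It fs _).sc i).mapHomologyIso G)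
  let e₁ : (G.mapHomologicalComplex (ComplexShape.up ℤ)).obj
      ((singleFunctor (ModuleCat.{u} R) 0).obj (ModuleCat.of R R)) ≅
      (HomologicalComplex.single (ModuleCat.{u} R) (ComplexShape.up ℤ) 0).obj M :=
    (HomologicalComplex.singleMapHomologicalComplex G _ 0).app _ ≪≫
      (HomologicalComplex.single _ _ 0).mapIso (λ_ M)
  obtain ⟨e₂⟩ : Nonempty (It fs ((G.mapHomologicalComplex (ComplexShape.up ℤ)).obj
      ((singleFunctor (ModuleCat.{u} R) 0).obj (ModuleCat.of R R))) ≅
      It fs ((HomologicalComplex.single (ModuleCat.{u} R) (ComplexShape.up ℤ) 0).obj M)) :=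
    ⟨eqToIso rfl ≪≫ itIso fs e₁⟩
  exact h2.of_iso ((HomologicalComplex.homologyFunctor _ _ i).mapIso (e ≪≫ e₂)).symm
theorem isZero_It_extCech' {fs : List R} (hfs : LCI.IsKoszulRegularSeq R fs) (M : ModuleCat.{u} R)
    [Module.Flat R M] :
    ∀ gs : List R, (∀ g ∈ gs, g ∈ fs) → ∀ i : ℤ, i ≠ 0 →
      IsZero ((It fs (DerCA.extCech M gs)).homology i)
  | [], _, i, hi => isZero_It_single hfs M i hi
  | g :: gs, hgs, i, hi => by
    obtain ⟨X, k, w, hS, hX⟩ := exists_ses (DerCA.locCxUnit (Submonoid.powers g)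
      (DerCA.extCech M gs)) (f := g) (fun j => bijective_smul_loc g _)
    obtain ⟨k', h', w', hS'⟩ := exists_shortExact fs _ hS
    exact (hS'.homology_exact₂ i).isZero_of_both_zeros
      ((acyclic_It fs (hgs g (by simp)) X hX i).eq_of_src _ _)
      ((isZero_It_extCech' hfs M gs (fun a ha => hgs a (by simp [ha])) i hi).eq_of_tgt _ _)

/-- For flat coefficients only the top degree survives. -/
theorem isZero_extCechH_flat {fs : List R} (hfs : LCI.IsKoszulRegularSeq R fs) (M : ModuleCat.{u} R)
    [Module.Flat R M] (q : ℤ) (hq : q ≠ (fs.length : ℤ)) :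
    IsZero ((DerCA.extCech M fs).homology q) := by
  let E := DerCA.extCech M fs
  have hout : ∀ i : ℤ, i < 0 ∨ (fs.length : ℤ) < i → IsZero (E.homology i) := fun i hi =>
    (E.exactAt_iff_isZero_homology i).mp
      (ShortComplex.exact_of_isZero_X₂ _ (DRing.ExtCech.vanishesOutside _ fs i (by omega)))
  by_cases hb : q < 0 ∨ (fs.length : ℤ) < q
  · exact hout q hb
  obtain ⟨n, rfl⟩ : ∃ n : ℕ, (n : ℤ) = q := ⟨q.toNat, by omega⟩
  clear hb
  induction n using Nat.strong_induction_on with
  | _ n ih =>
    by_cases hn : (fs.length : ℤ) < n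
    · exact hout _ (Or.inr hn)
    have hlow : ∀ i < (n : ℤ), IsZero (E.homology i) := fun i hi => by
      by_cases h0 : i < 0
      · exact hout i (Or.inl h0)
      · obtain ⟨k, rfl⟩ : ∃ k : ℕ, (k : ℤ) = i := ⟨i.toNat, by omega⟩
        exact ih k (by omega) (by omega)
    obtain ⟨ψ, -, hr⟩ := (exists_bottom E n hlow fs).2 ((n : ℤ) - fs.length) (by omega)
    haveI := ModuleCat.subsingleton_of_isZero
      (isZero_It_extCech' hfs M fs (fun _ h => h) ((n : ℤ) - fs.length) (by omega))
    refine @ModuleCat.isZero_of_subsingleton _ _ _ (subsingleton_of_forall_eq 0 fun x => ?_)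
    refine eq_zero_of_torsion fs (fun x hx => ?_)
      (fun x f hf => DRing.ExtCech.exists_pow_of_mem _ fs hf n x) fs (fun _ h => h) x
      (fun f hf => Or.inl hf)
    obtain ⟨y, rfl⟩ := hr x hx
    rw [Subsingleton.elim y 0, map_zero]

end Groth.Agent.LocKReg
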