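import Mathlib.Algebra.Homology.Embedding.Extend
import Mathlib.Algebra.Homology.Additive

/-! Termwise functors commute with extension of complexes. -/

open CategoryTheory Limits

namespace Groth.Agent.LocKReg

variable {A B : Type*} [Category A] [Preadditive A] [HasZeroObject A]
  [Category B] [Preadditive B] [HasZeroObject B] (F : A ⥤ B) [F.Additive]

/-- the components -/
noncomputable def comp (K : CochainComplex A ℕ) (k : ℤ) :
    ((F.mapHomologicalComplex (ComplexShape.up ℤ)).obj (K.extend ComplexShape.embeddingUpNat)).X k ≅
      (((F.mapHomologicalComplex (ComplexShape.up ℕ)).obj K).extend ComplexShape.embeddingUpNat).X k :=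
  if h : 0 ≤ k then
    F.mapIso (K.extendXIso ComplexShape.embeddingUpNat
      (show ComplexShape.embeddingUpNat.f k.toNat = k from Int.toNat_of_nonneg h)) ≪≫
      (((F.mapHomologicalComplex (ComplexShape.up ℕ)).obj K).extendXIso ComplexShape.embeddingUpNat
        (show ComplexShape.embeddingUpNat.f k.toNat = k from Int.toNat_of_nonneg h)).symm
  else
    (F.map_isZero (K.isZero_extend_X ComplexShape.embeddingUpNat k fun m hm => by simp at hm; omega)).iso
      (HomologicalComplex.isZero_extend_X _ ComplexShape.embeddingUpNat k fun m hm => by simp at hm; omega)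

theorem comp_hom (K : CochainComplex A ℕ) {k : ℤ} {m : ℕ} (hm : ComplexShape.embeddingUpNat.f m = k) :
    (comp F K k).hom = F.map (K.extendXIso ComplexShape.embeddingUpNat hm).hom ≫
      (((F.mapHomologicalComplex (ComplexShape.up ℕ)).obj K).extendXIso ComplexShape.embeddingUpNat hm).inv := by
  obtain rfl : m = k.toNat := by simp at hm; omega
  have h0 : 0 ≤ k := by simp at hm; omega
  exact congrArg Iso.hom (dif_pos h0)

noncomputable def mapExtendIso (K : CochainComplex A ℕ) :
    (F.mapHomologicalComplex (ComplexShape.up ℤ)).obj (K.extend ComplexShape.embeddingUpNat) ≅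
      ((F.mapHomologicalComplex (ComplexShape.up ℕ)).obj K).extend ComplexShape.embeddingUpNat :=
  HomologicalComplex.Hom.isoOfComponents (comp F K)
    fun k l hkl => by
      by_cases h : 0 ≤ k
      · have hk : ComplexShape.embeddingUpNat.f k.toNat = k := Int.toNat_of_nonneg h
        have hl : ComplexShape.embeddingUpNat.f (k.toNat + 1) = l := by simp at hkl ⊢; omega
        rw [comp_hom F K hk, comp_hom F K hl, HomologicalComplex.extend_d_eq _ ComplexShape.embeddingUpNat hk hl,
          Functor.mapHomologicalComplex_obj_d, Functor.mapHomologicalComplex_obj_d,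
          HomologicalComplex.extend_d_eq K ComplexShape.embeddingUpNat hk hl]
        set e₁ := ((F.mapHomologicalComplex (ComplexShape.up ℕ)).obj K).extendXIso ComplexShape.embeddingUpNat hk
        have h1 : e₁.inv ≫ e₁.hom = 𝟙 _ := e₁.inv_hom_id
        have h2 : F.map (K.extendXIso ComplexShape.embeddingUpNat hl).inv ≫
            F.map (K.extendXIso ComplexShape.embeddingUpNat hl).hom = 𝟙 _ := by
          rw [← F.map_comp, Iso.inv_hom_id, F.map_id]
        refine (Category.assoc _ _ _).trans (Eq.trans ?_ (congrArg (· ≫ _)
          ((F.map_comp _ _).trans (congrArg (F.map _ ≫ ·) (F.map_comp _ _)))).symm)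
        refine Eq.trans ?_ (Category.assoc _ _ _).symm
        refine congrArg (F.map _ ≫ ·) ?_
        refine ((Category.assoc _ _ _).symm.trans ((congrArg (· ≫ _) h1).trans (Category.id_comp _))).trans ?_
        refine Eq.trans ?_ (Category.assoc _ _ _).symm
        refine congrArg (F.map _ ≫ ·) ?_
        exact ((Category.assoc _ _ _).symm.trans ((congrArg (· ≫ _) h2).trans (Category.id_comp _))).symm
      · exact (F.map_isZero (K.isZero_extend_X ComplexShape.embeddingUpNat k fun m hm => by simp at hm; omega)).eq_of_src _ _

end Groth.Agent.LocKReg
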