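import Groth.Agent.S7267
import Groth.Agent.LocKReg.Flat
import Groth.Agent.LocKReg.MapExtend
import Groth.Agent.KFlat.TildeExact
import Groth.Agent.KFlat.TildeD

/-! Local cohomology of a flat quasi-coherent sheaf on an affine scheme. -/

set_option autoImplicit false
universe u
open CategoryTheory CategoryTheory.Limits AlgebraicGeometry DerivedCategory
attribute [local instance] HasDerivedCategory.standard
attribute [-instance] CategoryTheory.ReflQuiver.toQuiver
open Groth.Agent.KFlat Groth.Agent.DTrunc

namespace Groth.Agent.LocKReg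

theorem hasRgammaZ {U X : Scheme.{u}} (j : U ⟶ X) [IsOpenImmersion j] : CxOX.HasRgammaZ j :=
  (RightDerived.hasEnough (CxOX.gammaZKh j)).hasRightDerivedFunctor
    (HomotopyCategory.quasiIso X.Modules (ComplexShape.up ℤ))

/-- the derived functor of a module computes the local cohomology sheaves -/
theorem nonempty_HD_iso {U X : Scheme.{u}} (j : U ⟶ X) [IsOpenImmersion j] [CxOX.HasRgammaZ j]
    [HasInjectiveResolutions X.Modules] (M : X.Modules) (n : ℕ) :
    Nonempty (DCoh.HD ((CxOX.RgammaZ j).obj (DCoh.inD X M)) (n : ℤ) ≅ ((DCoh.gammaZ j).rightDerived n).obj M) := by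
  let I : InjectiveResolution M := InjectiveResolution.of M
  let F := DCoh.gammaZ j
  let J := I.cochainComplex
  have : J.IsKInjective := CochainComplex.isKInjective_of_injective J 0
  let W := HomotopyCategory.quasiIso X.Modules (ComplexShape.up ℤ)
  let α := (CxOX.gammaZKh j).totalRightDerivedUnit DerivedCategory.Qh W
  let q := HomotopyCategory.quotient X.Modules (ComplexShape.up ℤ)
  have : IsIso (α.app (q.obj J)) :=
    RightDerived.HasEnough.isIso_app (W := W) (CxOX.RgammaZ j) α (RightDerived.hasEnough (CxOX.gammaZKh j))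
      (RightDerived.isGood_quotient (CxOX.gammaZKh j) J)
  let c := DerivedCategory.quotientCompQhIso X.Modules
  let eM : DerivedCategory.Q.obj J ≅ DCoh.inD X M :=
    (asIso (DerivedCategory.Q.map I.ι')).symm ≪≫
      ((SingleFunctors.evaluation _ _ 0).mapIso (DerivedCategory.singleFunctorsPostcompQIso X.Modules)).symm.app M
  let C := (F.mapHomologicalComplex (ComplexShape.up ℤ)).obj J
  let eC : DerivedCategory.Q.obj C ≅ (CxOX.RgammaZ j).obj (DCoh.inD X M) :=
    (c.app C).symm ≪≫
      DerivedCategory.Qh.mapIso ((F.mapHomotopyCategoryFactors (ComplexShape.up ℤ)).app J).symm ≪≫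
      (@asIso _ _ _ _ (α.app (q.obj J)) this) ≪≫ (CxOX.RgammaZ j).mapIso (c.app J ≪≫ eM)
  let e3 : C ≅ ((F.mapHomologicalComplex (ComplexShape.up ℕ)).obj I.cocomplex).extend ComplexShape.embeddingUpNat :=
    mapExtendIso F I.cocomplex
  exact ⟨(DerivedCategory.homologyFunctor X.Modules _).mapIso (eC.symm ≪≫ Q.mapIso e3) ≪≫
    (DerivedCategory.homologyFunctorFactors X.Modules _).app _ ≪≫
    (((F.mapHomologicalComplex (ComplexShape.up ℕ)).obj I.cocomplex).extendHomologyIso ComplexShape.embeddingUpNat rfl) ≪≫
    (I.isoRightDerivedObj F n).symm⟩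

/-- on an affine scheme -/
theorem isZero_rightDerived_tilde (A : Type u) [CommRing A] (fs : List A) (hfs : LCI.IsKoszulRegularSeq A fs)
    (M : ModuleCat.{u} A) [Module.Flat A M] [HasInjectiveResolutions (Spec (CommRingCat.of A)).Modules]
    (i : ℕ) (hi : i ≠ fs.length) :
    IsZero (((DCoh.gammaZ (LocCoh.puncturedOpen A (Ideal.span {a | a ∈ fs})).ι).rightDerived i).obj
      ((tilde.functor (CommRingCat.of A)).obj M)) := by
  have := Groth.Agent.KFlat.TildeExact.preservesFiniteLimits_tilde (R := CommRingCat.of A)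
  let j := (LocCoh.puncturedOpen A (Ideal.span {a | a ∈ fs})).ι
  have := hasRgammaZ j
  obtain ⟨e⟩ := S7267.result A fs M
  let T := tilde.functor (CommRingCat.of A)
  haveI : PreservesFiniteLimits T := inferInstanceAs (PreservesFiniteLimits (tilde.functor (CommRingCat.of A)))
  haveI : PreservesBinaryBiproducts T := preservesBinaryBiproducts_of_preservesBinaryProducts T
  haveI : T.Additive := Functor.additive_of_preservesBinaryBiproducts T
  haveI : PreservesFiniteLimits T := inferInstanceAs (PreservesFiniteLimits (tilde.functor (CommRingCat.of A)))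
  haveI : PreservesFiniteColimits T :=
    have : PreservesColimitsOfSize.{0, 0} T := (tilde.adjunction (R := CommRingCat.of A)).leftAdjoint_preservesColimits
    inferInstance
  let e1 : (DCoh.tildeD (CommRingCat.of A)).obj (Dual.inD A M) ≅ DCoh.inD _ (T.obj M) :=
    (T.mapDerivedCategorySingleFunctor 0).app M
  obtain ⟨e2⟩ := nonempty_HD_iso j (T.obj M) i
  refine IsZero.of_iso ?_ e2.symm
  refine IsZero.of_iso ?_ ((DerivedCategory.homologyFunctor _ (i : ℤ)).mapIso (e ≪≫ (CxOX.RgammaZ j).mapIso e1)).symm
  let E := DerCA.extCech M fs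
  have hz : IsZero (E.homology (i : ℤ)) := isZero_extCechH_flat hfs M i (by omega)
  refine IsZero.of_iso ?_ ((DerivedCategory.homologyFunctor _ (i : ℤ)).mapIso (T.mapDerivedCategoryFactors.app E) ≪≫
    (DerivedCategory.homologyFunctorFactors _ (i : ℤ)).app _ ≪≫ (E.sc i).mapHomologyIso T)
  exact T.map_isZero hz

end Groth.Agent.LocKReg
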