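import Groth.Agent.LocCohZW.SheafM
import Groth.Agent.DerFun.Basic

/-! Sheaves of sections with support commute with open restriction. -/

set_option autoImplicit false
universe u
open CategoryTheory CategoryTheory.Limits AlgebraicGeometry Opposite
attribute [-instance] CategoryTheory.ReflQuiver.toQuiver

namespace Groth.Agent.LocKReg

variable {X Y : Scheme.{u}} (φ : Y ⟶ X) [IsOpenImmersion φ] (U : X.Opens) (U' : Y.Opens)

noncomputable abbrev res (M : X.Modules) {W W' : X.Opens} (h : W' ≤ W) : Γ(M, W) → Γ(M, W') :=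
  fun s => M.presheaf.map (homOfLE h).op s

theorem res_res' (M : X.Modules) {W W' W'' : X.Opens} (h : W' ≤ W) (h' : W'' ≤ W') (s : Γ(M, W)) :
    res M h' (res M h s) = res M (h'.trans h) s := by
  change M.presheaf.map _ (M.presheaf.map _ s) = _
  rw [← ConcreteCategory.comp_apply, ← Functor.map_comp]
  rfl

/-- sections of the kernel sheaf die on the open complement -/
theorem res_incl_eq_zero (M : X.Modules) (W W' : X.Opens) (h : W' ≤ W) (hW' : W' ≤ U)
    (t : Γ((DCoh.gammaZ U.ι).obj M, W)) :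
    res M h (((LocCohZW.SheafM.incl U.ι).app M).app W t) = 0 := by
  have h0 : ((Scheme.Modules.restrictAdjunction U.ι).unit.app M).app W
      (((LocCohZW.SheafM.incl U.ι).app M).app W t) = 0 :=
    congr($(kernel.condition ((Scheme.Modules.restrictAdjunction U.ι).unit.app M)).app W t)
  have h1 : res M (U.ι.image_preimage_le W) (((LocCohZW.SheafM.incl U.ι).app M).app W t) = 0 := h0
  have h2 : W' ≤ U.ι ''ᵁ (U.ι ⁻¹ᵁ W) := by
    rw [Scheme.Hom.image_preimage_eq_opensRange_inf, Scheme.Opens.opensRange_ι]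
    exact le_inf hW' h
  rw [show res M h _ = res M h2 (res M (U.ι.image_preimage_le W) _) from (res_res' M _ _ _).symm, h1]
  exact map_zero _

theorem map_incl_unit (hU : ∀ y, y ∈ U' ↔ φ.base y ∈ U) (M : X.Modules) :
    (Scheme.Modules.restrictFunctor φ).map ((LocCohZW.SheafM.incl U.ι).app M) ≫
      (Scheme.Modules.restrictAdjunction U'.ι).unit.app ((Scheme.Modules.restrictFunctor φ).obj M) = 0 := by
  ext O t
  change res M (φ.image_mono (U'.ι.image_preimage_le O)) (((LocCohZW.SheafM.incl U.ι).app M).app (φ ''ᵁ O) t) = 0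
  exact res_incl_eq_zero U M _ _ _ (by
    rintro _ ⟨y, ⟨z, _, rfl⟩, rfl⟩
    exact (hU _).1 z.2) t

theorem incl_map_unit (hU : ∀ y, y ∈ U' ↔ φ.base y ∈ U) (M : X.Modules) :
    (LocCohZW.SheafM.incl U'.ι).app ((Scheme.Modules.restrictFunctor φ).obj M) ≫
      (Scheme.Modules.restrictFunctor φ).map ((Scheme.Modules.restrictAdjunction U.ι).unit.app M) = 0 := by
  ext O t
  have h0 := congr($(kernel.condition ((Scheme.Modules.restrictAdjunction U'.ι).unit.app
    ((Scheme.Modules.restrictFunctor φ).obj M))).app O t)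
  let s : Γ(M, φ ''ᵁ O) := ((LocCohZW.SheafM.incl U'.ι).app ((Scheme.Modules.restrictFunctor φ).obj M)).app O t
  change res M (U.ι.image_preimage_le (φ ''ᵁ O)) s = 0
  have h1 : res M (φ.image_mono (U'.ι.image_preimage_le O)) s = 0 := h0
  have h2 : U.ι ''ᵁ (U.ι ⁻¹ᵁ (φ ''ᵁ O)) ≤ φ ''ᵁ (U'.ι ''ᵁ (U'.ι ⁻¹ᵁ O)) := by
    rintro _ ⟨z, hz, rfl⟩
    obtain ⟨y, hy, e⟩ := hz
    exact ⟨y, ⟨⟨y, (hU y).2 (e.symm ▸ z.2)⟩, hy, rfl⟩, e⟩
  rw [show res M (U.ι.image_preimage_le (φ ''ᵁ O)) s = res M h2 (res M (φ.image_mono (U'.ι.image_preimage_le O)) s)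
    from (res_res' M _ _ _).symm, h1]
  exact map_zero _

noncomputable def gammaIso (hU : ∀ y, y ∈ U' ↔ φ.base y ∈ U) :
    DCoh.gammaZ U.ι ⋙ Scheme.Modules.restrictFunctor φ ≅
      Scheme.Modules.restrictFunctor φ ⋙ DCoh.gammaZ U'.ι :=
  NatIso.ofComponents (fun M =>
    { hom := kernel.lift _ _ (map_incl_unit φ U U' hU M)
      inv := kernel.lift _ _ (incl_map_unit φ U U' hU M) ≫
        (PreservesKernel.iso (Scheme.Modules.restrictFunctor φ)
          ((Scheme.Modules.restrictAdjunction U.ι).unit.app M)).inv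
      hom_inv_id := by
        have : Mono ((Scheme.Modules.restrictFunctor φ).map (kernel.ι
          ((Scheme.Modules.restrictAdjunction U.ι).unit.app M))) := inferInstance
        refine (cancel_mono ((Scheme.Modules.restrictFunctor φ).map (kernel.ι
          ((Scheme.Modules.restrictAdjunction U.ι).unit.app M)))).1 ?_
        refine Eq.trans ?_ (Category.id_comp _).symm
        refine (Category.assoc _ _ _).trans ?_
        refine (congrArg (_ ≫ ·) ((Category.assoc _ _ _).trans ((congrArg (_ ≫ ·)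
          (PreservesKernel.iso_inv_ι _ _)).trans (kernel.lift_ι _ _ _)))).trans ?_
        exact kernel.lift_ι _ _ _
      inv_hom_id := by
        refine (cancel_mono (kernel.ι ((Scheme.Modules.restrictAdjunction U'.ι).unit.app
          ((Scheme.Modules.restrictFunctor φ).obj M)))).1 ?_
        refine Eq.trans ?_ (Category.id_comp _).symm
        refine (Category.assoc _ _ _).trans ?_
        refine (congrArg (_ ≫ ·) (kernel.lift_ι _ _ _)).trans ?_
        refine (Category.assoc _ _ _).trans ?_
        refine (congrArg (_ ≫ ·) (PreservesKernel.iso_inv_ι _ _)).trans ?_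
        exact kernel.lift_ι _ _ _ })
    (fun {M N} f => by
      have : Mono ((LocCohZW.SheafM.incl U'.ι).app ((Scheme.Modules.restrictFunctor φ).obj N)) :=
        inferInstanceAs (Mono (kernel.ι _))
      refine (cancel_mono ((LocCohZW.SheafM.incl U'.ι).app ((Scheme.Modules.restrictFunctor φ).obj N))).1 ?_
      have e1 : ∀ K, kernel.lift _ _ (map_incl_unit φ U U' hU K) ≫ (LocCohZW.SheafM.incl U'.ι).app _ =
          (Scheme.Modules.restrictFunctor φ).map ((LocCohZW.SheafM.incl U.ι).app K) := fun K => kernel.lift_ι _ _ _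
      have e2 := (LocCohZW.SheafM.incl U'.ι).naturality ((Scheme.Modules.restrictFunctor φ).map f)
      have e3 := congrArg (Scheme.Modules.restrictFunctor φ).map ((LocCohZW.SheafM.incl U.ι).naturality f)
      refine (Category.assoc _ _ _).trans ?_
      refine (congrArg (_ ≫ ·) (e1 N)).trans ?_
      refine ((Scheme.Modules.restrictFunctor φ).map_comp _ _).symm.trans (e3.trans ?_)
      refine ((Scheme.Modules.restrictFunctor φ).map_comp _ _).trans ?_
      refine Eq.trans ?_ (Category.assoc _ _ _).symm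
      refine Eq.trans ?_ (congrArg (_ ≫ ·) e2).symm
      refine Eq.trans ?_ (Category.assoc _ _ _)
      exact congrArg (· ≫ _) (e1 M).symm)

theorem nonempty_rightDerived_restrict [HasInjectiveResolutions X.Modules] [HasInjectiveResolutions Y.Modules]
    (hU : ∀ y, y ∈ U' ↔ φ.base y ∈ U) (F : X.Modules) (n : ℕ) :
    Nonempty ((Scheme.Modules.restrictFunctor φ).obj (((DCoh.gammaZ U.ι).rightDerived n).obj F) ≅
      ((DCoh.gammaZ U'.ι).rightDerived n).obj ((Scheme.Modules.restrictFunctor φ).obj F)) := by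
  have : (Scheme.Modules.restrictFunctor φ).PreservesInjectiveObjects :=
    ⟨fun {Q} hQ => LocCohZW.SheafM.injective_restrictFunctor φ Q hQ⟩
  have hI : HasInjectiveResolutions X.Modules := inferInstance
  let J := injectiveResolution F
  exact ⟨(DerFun.rightDerivedPostIso (Scheme.Modules.restrictFunctor φ) (DCoh.gammaZ U.ι) n F).symm ≪≫
    J.isoRightDerivedObj _ n ≪≫
    (HomologicalComplex.homologyFunctor _ _ n).mapIso
      ((NatIso.mapHomologicalComplex (gammaIso φ U U' hU) (ComplexShape.up ℕ)).app J.cocomplex) ≪≫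
    (J.isoRightDerivedObj _ n).symm ≪≫
    DerFun.rightDerivedCompIso (Scheme.Modules.restrictFunctor φ) (DCoh.gammaZ U'.ι) n F⟩

end Groth.Agent.LocKReg
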